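import Mathlib
import Groth.Prelude.Def_W4c6nonredquotmfGoodQuot
import Groth.Agent.GrpSch.OrbitRat

/-! Orbit closures and good quotients over an algebraically closed field. -/

set_option autoImplicit false
set_option linter.all false
set_option backward.isDefEq.respectTransparency.types false

universe u

open CategoryTheory MonoidalCategory CartesianMonoidalCategory MonObj GrpObj Limits AlgebraicGeometry Topology
open Groth.Agent.GrpSch

namespace Groth.Agent.NRQ6

variable {k : Type u} [Field k] {G X Y : Over (Spec (CommRingCat.of k))} [GrpObj G]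

local notation "pt" => 𝟙_ (Over (Spec (CommRingCat.of k)))

lemma tensor_lft [LocallyOfFiniteType G.hom] [LocallyOfFiniteType X.hom] : LocallyOfFiniteType (G ⊗ X).hom := by
  show LocallyOfFiniteType (pullback.fst G.hom X.hom ≫ G.hom)
  infer_instance

lemma translate_mem_closure (a : AlgGrp.Action G X) (x : pt ⟶ X) (g : pt ⟶ G) :
    ∀ z ∈ closure (Set.range (a.orbitMap x).left.base),
      (lift (toUnit X ≫ g) (𝟙 X) ≫ a.act).left z ∈ closure (Set.range (a.orbitMap x).left.base) := by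
  intro z hz
  refine map_mem_closure (lift (toUnit X ≫ g) (𝟙 X) ≫ a.act).left.continuous hz ?_
  rintro _ ⟨h, rfl⟩
  refine ⟨((toUnit G ≫ g) * 𝟙 G).left h, ?_⟩
  rw [← comp_left_apply, ← comp_left_apply, mul_orbitMap, Category.id_comp, comp_lift_assoc,
    comp_toUnit_assoc, Category.comp_id]

lemma isInvariantSet_closure_orbit [IsAlgClosed k] [LocallyOfFiniteType G.hom] [LocallyOfFiniteType X.hom]
    (a : AlgGrp.Action G X) (x : pt ⟶ X) :
    NRQuot.IsInvariantSet a (closure (Set.range (a.orbitMap x).left.base)) := by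
  intro p hp
  by_contra hc
  haveI := tensor_lft (G := G) (X := X)
  haveI : JacobsonSpace (G ⊗ X).left := LocallyOfFiniteType.jacobsonSpace (G ⊗ X).hom
  set C := closure (Set.range (a.orbitMap x).left.base)
  obtain ⟨q, ⟨hq1, hq2⟩, hqc⟩ := nonempty_inter_closedPoints (X := (G ⊗ X).left)
    (Z := (snd G X).left.base ⁻¹' C ∩ (a.act.left.base ⁻¹' C)ᶜ) ⟨p, hp, hc⟩
    ((isClosed_closure.preimage (snd G X).left.continuous).isLocallyClosed.inter
      (isClosed_closure.preimage a.act.left.continuous).isOpen_compl.isLocallyClosed)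
  obtain ⟨r, rfl⟩ := exists_ratPoint (G ⊗ X) hqc
  apply hq2
  have h := translate_mem_closure a x (r ≫ fst G X) _ hq1
  rw [← comp_left_apply, ← comp_left_apply] at h
  show a.act.left (r.left (IsLocalRing.closedPoint k)) ∈ C
  rw [← comp_left_apply]
  have e : (r ≫ snd G X) ≫ lift (toUnit X ≫ r ≫ fst G X) (𝟙 X) ≫ a.act = r ≫ a.act := by
    rw [comp_lift_assoc, comp_toUnit_assoc, Category.comp_id, toUnit_unique (toUnit (𝟙_ _)) (𝟙 _), Category.id_comp,
      ← comp_lift r, lift_fst_snd, Category.comp_id]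
  rw [Category.assoc] at e
  rwa [e] at h

lemma exists_translate [IsAlgClosed k] [LocallyOfFiniteType G.hom] [LocallyOfFiniteType X.hom] (a : AlgGrp.Action G X)
    (x z : pt ⟶ X) (h : z.left (IsLocalRing.closedPoint k) ∈ Set.range (a.orbitMap x).left.base) :
    ∃ g : pt ⟶ G, lift g x ≫ a.act = z := by
  haveI : JacobsonSpace G.left := LocallyOfFiniteType.jacobsonSpace G.hom
  have hzc : IsClosed ({z.left (IsLocalRing.closedPoint k)} : Set X.left) :=
    (pointEquivClosedPoint X.hom ⟨z.left, Over.w z⟩).2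
  obtain ⟨g', hg', hg'c⟩ := nonempty_inter_closedPoints (X := G.left)
    (Z := (a.orbitMap x).left.base ⁻¹' {z.left (IsLocalRing.closedPoint k)})
    (by obtain ⟨g, hg⟩ := h; exact ⟨g, hg⟩) (hzc.preimage (a.orbitMap x).left.continuous).isLocallyClosed
  obtain ⟨g, rfl⟩ := exists_ratPoint G hg'c
  refine ⟨g, ?_⟩
  have heq : g ≫ a.orbitMap x = z := Over.OverMorphism.ext (ext_of_apply_closedPoint_eq X.hom
    (Over.w (g ≫ a.orbitMap x)) (Over.w z) (by rw [comp_left_apply]; exact hg'))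
  rw [comp_orbitMap, toUnit_unique (toUnit (𝟙_ _)) (𝟙 _), Category.id_comp] at heq
  exact heq

lemma self_mem_orbit (a : AlgGrp.Action G X) (x : pt ⟶ X) :
    x.left (IsLocalRing.closedPoint k) ∈ Set.range (a.orbitMap x).left.base := by
  refine ⟨η[G].left (IsLocalRing.closedPoint k), ?_⟩
  rw [← comp_left_apply, comp_orbitMap, toUnit_unique (toUnit (𝟙_ _)) (𝟙 _), Category.id_comp, eq_one_unit,
    show lift (1 : pt ⟶ G) x ≫ a.act = x from by simpa using act_one a x]

lemma isClosed_ratPoint (y : pt ⟶ Y) : IsClosed ({y.left (IsLocalRing.closedPoint k)} : Set Y.left) := by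
  set P := y.left (IsLocalRing.closedPoint k)
  refine closure_subset_iff_isClosed.mp fun z hz => ?_
  obtain ⟨U, hU, hzU, -⟩ := exists_isAffineOpen_mem_and_subset (x := z) (U := (⊤ : Y.left.Opens)) trivial
  have hPU : P ∈ U := by
    obtain ⟨w, hw, rfl⟩ := mem_closure_iff.mp hz U U.2 hzU
    exact hw
  have hr : y.left ⁻¹ᵁ U = ⊤ := by
    ext w
    simp only [TopologicalSpace.Opens.coe_top, Set.mem_univ, iff_true]
    haveI : Subsingleton (𝟙_ (Over (Spec (CommRingCat.of k)))).left := inferInstanceAs (Subsingleton (Spec (CommRingCat.of k)))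
    show y.left w ∈ U
    rw [Subsingleton.elim w (IsLocalRing.closedPoint k)]
    exact hPU
  let s : (pt).left ⟶ (U : Scheme) := IsOpenImmersion.lift U.ι y.left (by
    rintro _ ⟨w, rfl⟩
    rw [Scheme.Opens.range_ι]
    exact (hr ▸ TopologicalSpace.Opens.mem_top w : w ∈ y.left ⁻¹ᵁ U))
  have hs : s ≫ U.ι = y.left := IsOpenImmersion.lift_fac _ _ _
  haveI : IsAffine (U : Scheme) := hU
  haveI : IsClosedImmersion (s ≫ (U.ι ≫ Y.hom)) := by
    rw [← Category.assoc, hs, Over.w y]
    exact inferInstanceAs (IsClosedImmersion (𝟙 (Spec (CommRingCat.of k))))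
  haveI : IsClosedImmersion s := IsClosedImmersion.of_comp s (U.ι ≫ Y.hom)
  have hcl : IsClosed (Set.range s.base) := s.isClosedEmbedding.isClosed_range
  obtain ⟨t, ht⟩ := hcl.isOpen_compl.preimage continuous_id |> fun _ => (⟨⟨z, hzU⟩, rfl⟩ : ∃ t : (U : Scheme), U.ι t = z)
  have hmem : t ∈ closure (Set.range s.base) := by
    rw [U.ι.isOpenEmbedding.isEmbedding.closure_eq_preimage_closure_image, Set.mem_preimage, ← Set.range_comp]
    refine closure_mono ?_ (show U.ι t ∈ closure {P} from ht ▸ hz)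
    rintro _ rfl
    exact ⟨IsLocalRing.closedPoint k, by
      show U.ι (s (IsLocalRing.closedPoint k)) = _
      rw [← Scheme.Hom.comp_apply, hs]⟩
  rw [hcl.closure_eq] at hmem
  obtain ⟨w, hw⟩ := hmem
  show z ∈ ({P} : Set Y.left)
  rw [← ht, ← hw, ← Scheme.Hom.comp_apply, hs]
  haveI : Subsingleton (𝟙_ (Over (Spec (CommRingCat.of k)))).left := inferInstanceAs (Subsingleton (Spec (CommRingCat.of k)))
  rw [Subsingleton.elim w (IsLocalRing.closedPoint k)]
  rfl

lemma image_closure_orbit (a : AlgGrp.Action G X) (φ : X ⟶ Y) (hinv : GIT.IsInvariant a φ) (x : pt ⟶ X) :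
    φ.left.base '' closure (Set.range (a.orbitMap x).left.base) = {(x ≫ φ).left (IsLocalRing.closedPoint k)} := by
  have hconst : a.orbitMap x ≫ φ = toUnit G ≫ x ≫ φ := by
    rw [AlgGrp.Action.orbitMap, Category.assoc, hinv, ← Category.assoc, lift_snd, Category.assoc]
  refine Set.Subset.antisymm ?_ ?_
  · refine (image_closure_subset_closure_image φ.left.continuous).trans (closure_minimal ?_ (isClosed_ratPoint (x ≫ φ)))
    rintro _ ⟨_, ⟨g, rfl⟩, rfl⟩
    show φ.left ((a.orbitMap x).left g) ∈ _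
    rw [← comp_left_apply, hconst]
    show (x ≫ φ).left ((toUnit G).left g) ∈ _
    haveI : Subsingleton (𝟙_ (Over (Spec (CommRingCat.of k)))).left := inferInstanceAs (Subsingleton (Spec (CommRingCat.of k)))
    rw [Subsingleton.elim ((toUnit G).left g) (IsLocalRing.closedPoint k)]
    rfl
  · rintro _ rfl
    exact ⟨_, subset_closure (self_mem_orbit a x), (comp_left_apply x φ _).symm⟩

lemma exists_common_point [IsAlgClosed k] [LocallyOfFiniteType G.hom] [LocallyOfFiniteType X.hom] (a : AlgGrp.Action G X)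
    (φ : X ⟶ Y) (h : NRQuot.IsGoodQuot a φ) (x₁ x₂ : pt ⟶ X) (hx : x₁ ≫ φ = x₂ ≫ φ) :
    (closure (Set.range (a.orbitMap x₁).left.base) ∩ closure (Set.range (a.orbitMap x₂).left.base)).Nonempty := by
  let W : ULift.{u} Bool → Set X.left := fun b =>
    bif b.down then closure (Set.range (a.orbitMap x₁).left.base) else closure (Set.range (a.orbitMap x₂).left.base)
  have h1 := h.inter _ W (fun b => by rcases b with ⟨_ | _⟩ <;> exact isClosed_closure) (fun b => by
    rcases b with ⟨_ | _⟩ <;> exact isInvariantSet_closure_orbit a _)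
  have h2 : (x₁ ≫ φ).left (IsLocalRing.closedPoint k) ∈ ⋂ b, φ.left.base '' W b := by
    refine Set.mem_iInter.mpr fun b => ?_
    rcases b with ⟨_ | _⟩
    · show _ ∈ φ.left.base '' closure _
      rw [image_closure_orbit a φ h.inv, hx]; rfl
    · show _ ∈ φ.left.base '' closure _
      rw [image_closure_orbit a φ h.inv]; rfl
  rw [← h1] at h2
  obtain ⟨z, hz, -⟩ := h2
  exact ⟨z, Set.mem_iInter.mp hz ⟨true⟩, Set.mem_iInter.mp hz ⟨false⟩⟩

lemma ratPoint_ext_affine {U : Scheme.{u}} [IsAffine U] (π : U ⟶ Spec (CommRingCat.of k)) (f g : Spec (CommRingCat.of k) ⟶ U)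
    (hf : f ≫ π = 𝟙 _) (hg : g ≫ π = 𝟙 _) (h : f (IsLocalRing.closedPoint k) = g (IsLocalRing.closedPoint k)) : f = g := by
  obtain ⟨φ, hφ⟩ : ∃ φ, Spec.map φ = f ≫ U.isoSpec.hom := ⟨Spec.preimage _, Spec.map_preimage _⟩
  obtain ⟨χ, hχ⟩ : ∃ χ, Spec.map χ = g ≫ U.isoSpec.hom := ⟨Spec.preimage _, Spec.map_preimage _⟩
  obtain ⟨ψ, hψ⟩ : ∃ ψ, Spec.map ψ = U.isoSpec.inv ≫ π := ⟨Spec.preimage _, Spec.map_preimage _⟩
  have hψφ : ψ ≫ φ = 𝟙 _ := Spec.map_injective (by rw [Spec.map_comp, Spec.map_id, hφ, hψ]; simp [hf])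
  have hψχ : ψ ≫ χ = 𝟙 _ := Spec.map_injective (by rw [Spec.map_comp, Spec.map_id, hχ, hψ]; simp [hg])
  have hpt : Spec.map φ (IsLocalRing.closedPoint k) = Spec.map χ (IsLocalRing.closedPoint k) := by
    rw [hφ, hχ, Scheme.Hom.comp_apply, Scheme.Hom.comp_apply, h]
  have hker : ∀ r, φ r = 0 ↔ χ r = 0 := fun r => by
    have h2 := congrArg (fun q : PrimeSpectrum _ => r ∈ q.asIdeal) hpt
    have hb : IsLocalRing.maximalIdeal k = ⊥ := IsLocalRing.maximalIdeal_eq_bot
    change (φ r ∈ IsLocalRing.maximalIdeal k) = (χ r ∈ IsLocalRing.maximalIdeal k) at h2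
    rw [hb, Ideal.mem_bot, Ideal.mem_bot] at h2
    exact Iff.of_eq h2
  have hkey : φ = χ := by
    ext r
    have e1 : φ (ψ (φ r)) = φ r := congrArg (fun q => q (φ r)) (congrArg (fun q => (q.hom : k → k)) hψφ)
    have e2 : χ (ψ (φ r)) = φ r := congrArg (fun q => q (φ r)) (congrArg (fun q => (q.hom : k → k)) hψχ)
    have e3 : φ (r - ψ (φ r)) = 0 := by rw [map_sub, e1, sub_self]
    have e4 := (hker _).mp e3
    rw [map_sub, e2, sub_eq_zero] at e4
    exact e4.symm
  rw [← cancel_mono U.isoSpec.hom, ← hφ, ← hχ, hkey]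

lemma ratPoint_ext (x y : pt ⟶ Y) (h : x.left (IsLocalRing.closedPoint k) = y.left (IsLocalRing.closedPoint k)) : x = y := by
  refine Over.OverMorphism.ext ?_
  obtain ⟨U, hU, hxU, -⟩ := exists_isAffineOpen_mem_and_subset (x := x.left (IsLocalRing.closedPoint k)) (U := (⊤ : Y.left.Opens)) trivial
  haveI : Subsingleton (𝟙_ (Over (Spec (CommRingCat.of k)))).left := inferInstanceAs (Subsingleton (Spec (CommRingCat.of k)))
  have hr : ∀ z : pt ⟶ Y, z.left (IsLocalRing.closedPoint k) ∈ U → Set.range z.left.base ⊆ Set.range U.ι.base := fun z hz => by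
    rintro _ ⟨w, rfl⟩
    rw [Scheme.Opens.range_ι, Subsingleton.elim w (IsLocalRing.closedPoint k)]
    exact hz
  haveI : IsAffine (U : Scheme) := hU
  haveI : IsSeparated (U.ι ≫ Y.hom) := inferInstance
  rw [← IsOpenImmersion.lift_fac U.ι x.left (hr x hxU), ← IsOpenImmersion.lift_fac U.ι y.left (hr y (h ▸ hxU))]
  congr 1
  refine ratPoint_ext_affine (U.ι ≫ Y.hom) _ _ ?_ ?_ ?_
  · exact (IsOpenImmersion.lift_fac_assoc U.ι x.left _ Y.hom).trans (Over.w x)
  · exact (IsOpenImmersion.lift_fac_assoc U.ι y.left _ Y.hom).trans (Over.w y)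
  · apply U.ι.isOpenEmbedding.injective
    show U.ι _ = U.ι _
    rw [← Scheme.Hom.comp_apply, ← Scheme.Hom.comp_apply, IsOpenImmersion.lift_fac, IsOpenImmersion.lift_fac]
    exact h

lemma ratPoint_apply_unique (x : pt ⟶ X) (w : (pt).left) : x.left w = x.left (IsLocalRing.closedPoint k) := by
  haveI : Subsingleton (𝟙_ (Over (Spec (CommRingCat.of k)))).left := inferInstanceAs (Subsingleton (Spec (CommRingCat.of k)))
  exact congrArg _ (Subsingleton.elim _ _)

lemma orbit_subset_of_invariant (a : AlgGrp.Action G X) (z : pt ⟶ X) {W : Set X.left} (hW : NRQuot.IsInvariantSet a W)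
    (hz : z.left (IsLocalRing.closedPoint k) ∈ W) : Set.range (a.orbitMap z).left.base ⊆ W := by
  rintro _ ⟨g, rfl⟩
  have h2 : (snd G X).left.base ((lift (𝟙 G) (toUnit G ≫ z)).left g) ∈ W := by
    show (snd G X).left ((lift (𝟙 G) (toUnit G ≫ z)).left g) ∈ W
    rw [← comp_left_apply, lift_snd]
    show z.left ((toUnit G).left g) ∈ W
    rw [ratPoint_apply_unique]
    exact hz
  exact hW _ h2

theorem exists_closed_orbit_in_fibre [IsAlgClosed k] [IsAffine G.left] [LocallyOfFiniteType G.hom] [LocallyOfFiniteType X.hom]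
    (a : AlgGrp.Action G X) (φ : X ⟶ Y) (h : NRQuot.IsGoodQuot a φ) (y : pt ⟶ Y) :
    ∃ x : pt ⟶ X, x ≫ φ = y ∧ IsClosed (Set.range (a.orbitMap x).left.base) := by
  haveI : JacobsonSpace X.left := LocallyOfFiniteType.jacobsonSpace X.hom
  haveI : JacobsonSpace G.left := LocallyOfFiniteType.jacobsonSpace G.hom
  haveI : IsAffineHom φ.left := h.affine
  haveI : IsAffineHom G.hom := isAffineHom_of_isAffine G.hom
  haveI : QuasiCompact G.hom := inferInstance
  set P := y.left (IsLocalRing.closedPoint k)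
  obtain ⟨U, hU, hPU, -⟩ := exists_isAffineOpen_mem_and_subset (x := P) (U := (⊤ : Y.left.Opens)) trivial
  let V := φ.left ⁻¹ᵁ U
  haveI : IsAffine (V : Scheme) := hU.preimage φ.left
  haveI : IsLocallyNoetherian X.left := LocallyOfFiniteType.isLocallyNoetherian X.hom
  haveI : IsLocallyNoetherian (V : Scheme) := isLocallyNoetherian_of_isOpenImmersion V.ι
  haveI : CompactSpace (V : Scheme) := inferInstance
  haveI : IsNoetherian (V : Scheme) := {}
  have hsurj : ∀ q, ∃ x, φ.left.base x = q := fun q => by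
    have h1 := h.inter PEmpty (fun i => i.elim) (fun i => i.elim) (fun i => i.elim)
    rw [Set.iInter_of_empty, Set.iInter_of_empty] at h1
    obtain ⟨x, -, hx⟩ := h1.symm.subset (Set.mem_univ q)
    exact ⟨x, hx⟩
  have hover : ∀ x : pt ⟶ X, φ.left.base (x.left (IsLocalRing.closedPoint k)) = P → x ≫ φ = y := fun x hx => by
    refine ratPoint_ext (x ≫ φ) y ?_
    rw [comp_left_apply]; exact hx
  let Cx := fun x : pt ⟶ X => (⟨V.ι.base ⁻¹' closure (Set.range (a.orbitMap x).left.base),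
    isClosed_closure.preimage V.ι.continuous⟩ : TopologicalSpace.Closeds (V : Scheme))
  obtain ⟨x₁, hx₁⟩ := hsurj P
  have hfc : IsClosed (φ.left.base ⁻¹' {P}) := (isClosed_ratPoint y).preimage φ.left.continuous
  obtain ⟨x₂, hx₂, hx₂c⟩ := nonempty_inter_closedPoints (X := X.left) ⟨x₁, hx₁⟩ hfc.isLocallyClosed
  obtain ⟨x₀, rfl⟩ := exists_ratPoint X hx₂c
  obtain ⟨-, ⟨x, hxφ, rfl⟩, hmin⟩ := wellFounded_lt.has_min (Cx '' {x | φ.left.base (x.left (IsLocalRing.closedPoint k)) = P})
    ⟨_, Set.mem_image_of_mem Cx hx₂⟩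
  refine ⟨x, hover x hxφ, ?_⟩
  set orb := Set.range (a.orbitMap x).left.base
  by_contra hcl
  have hne : (closure orb \ orb).Nonempty := Set.sdiff_nonempty.2 fun h => hcl (closure_subset_iff_isClosed.1 h)
  have hC : IsClosed (closure orb \ orb) := by
    obtain ⟨O, Z, hO, hZ, he⟩ := isLocallyClosed_orbit a x
    have : closure orb \ orb = closure orb \ O := by
      ext z
      exact ⟨fun ⟨hz, hz'⟩ => ⟨hz, fun hzO => hz' (he.ge ⟨hzO, closure_minimal (he.le.trans Set.inter_subset_right) hZ hz⟩)⟩,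
        fun ⟨hz, hz'⟩ => ⟨hz, fun hzR => hz' (he.le hzR).1⟩⟩
    rw [this]; exact isClosed_closure.sdiff hO
  have hinv : NRQuot.IsInvariantSet a (closure orb \ orb) := by
    intro p hp
    refine ⟨isInvariantSet_closure_orbit a x p hp.1, fun hc => ?_⟩
    haveI := tensor_lft (G := G) (X := X)
    haveI : JacobsonSpace (G ⊗ X).left := LocallyOfFiniteType.jacobsonSpace (G ⊗ X).hom
    obtain ⟨q, ⟨hq1, hq2⟩, hqc⟩ := nonempty_inter_closedPoints (X := (G ⊗ X).left)
      (Z := (snd G X).left.base ⁻¹' (closure orb \ orb) ∩ (a.act.left.base ⁻¹' orb)) ⟨p, hp, hc⟩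
      ((hC.preimage (snd G X).left.continuous).isLocallyClosed.inter
        ((isLocallyClosed_orbit a x).preimage a.act.left.continuous))
    obtain ⟨r, rfl⟩ := exists_ratPoint (G ⊗ X) hqc
    obtain ⟨g, hg⟩ := exists_translate a x (r ≫ a.act) (by rw [comp_left_apply]; exact hq2)
    have e : r ≫ snd G X = lift ((r ≫ fst G X)⁻¹ * g) x ≫ a.act := by
      have e' : r ≫ a.act = lift (r ≫ fst G X) (r ≫ snd G X) ≫ a.act := by
        rw [← comp_lift r, lift_fst_snd, Category.comp_id]
      rw [act_mul, hg, e', ← act_mul, inv_mul_cancel, act_one]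
    apply hq1.2
    show (snd G X).left (r.left (IsLocalRing.closedPoint k)) ∈ orb
    rw [← comp_left_apply, e]
    refine ⟨(((r ≫ fst G X)⁻¹ * g)).left (IsLocalRing.closedPoint k), ?_⟩
    rw [← comp_left_apply, comp_orbitMap, toUnit_unique (toUnit (𝟙_ _)) (𝟙 _), Category.id_comp]
  obtain ⟨z₀, hz₀, hz₀c⟩ := nonempty_inter_closedPoints (X := X.left) hne hC.isLocallyClosed
  obtain ⟨z, rfl⟩ := exists_ratPoint X hz₀c
  have hsub := orbit_subset_of_invariant a z hinv hz₀
  have hsub' : closure (Set.range (a.orbitMap z).left.base) ⊆ closure orb \ orb := closure_minimal hsub hC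
  have hzP : φ.left.base (z.left (IsLocalRing.closedPoint k)) = P := by
    have := Set.mem_image_of_mem φ.left.base hz₀.1
    rw [image_closure_orbit a φ h.inv, hover x hxφ] at this
    exact this
  refine hmin (Cx z) ⟨z, hzP, rfl⟩ (lt_of_le_of_ne (fun v hv => (hsub' hv).1) fun heq => ?_)
  obtain ⟨v, hv⟩ : x.left (IsLocalRing.closedPoint k) ∈ Set.range V.ι.base := by
    rw [Scheme.Opens.range_ι]
    show φ.left.base _ ∈ U
    rw [hxφ]; exact hPU
  have hv' : v ∈ Cx x := show V.ι.base v ∈ closure orb from hv ▸ subset_closure (self_mem_orbit a x)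
  rw [← heq] at hv'
  exact (hsub' (hv' : V.ι.base v ∈ _)).2 (hv ▸ self_mem_orbit a x)

end Groth.Agent.NRQ6
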